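import Groth.Agent.ParHilbLib.Poly
import Groth.Agent.ParHilbLib.Basic
import Mathlib.MeasureTheory.Integral.IntervalIntegral.Basic

/-!
# The filtration as a step function of the weight
-/

set_option autoImplicit false
universe u

open CategoryTheory CategoryTheory.Limits AlgebraicGeometry MeasureTheory

noncomputable section

namespace CurvParLib

variable {X : Scheme.{u}} {E G : X.Modules}

/-- The step function through the jumps. -/
theorem at_eq_sum (𝓔 : ParSh.Str E) (f : Subobject E → ℝ) (a : ℝ) :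
    f (𝓔.at a) = f 𝓔.bot + ∑ j : Fin (𝓔.l + 1),
      if a ≤ 𝓔.wt j then f (𝓔.piece j) - f (𝓔.pieceX j.succ) else 0 := by
  by_cases h : ∃ j, a ≤ 𝓔.wt j
  · obtain ⟨j, hj, hmin⟩ := wellFounded_lt.has_min {j : Fin (𝓔.l + 1) | a ≤ 𝓔.wt j} h
    rw [𝓔.at_eq_piece j hj fun j' hj' => not_le.mp fun hc => hmin j' hc hj']
    have ht := ParHilbLib.sum_tele fun i : Fin (𝓔.l + 2) => f (𝓔.pieceX (max i j.castSucc))
    rw [max_eq_right (Fin.zero_le _), max_eq_left (Fin.le_last _), ParSh.Str.pieceX_castSucc,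
      ParSh.Str.pieceX_last] at ht
    have hs : ∀ i : Fin (𝓔.l + 1), (if a ≤ 𝓔.wt i then f (𝓔.piece i) - f (𝓔.pieceX i.succ) else 0) =
        -(f (𝓔.pieceX (max i.succ j.castSucc)) - f (𝓔.pieceX (max i.castSucc j.castSucc))) := fun i => by
      rcases lt_or_ge i j with hij | hij
      · rw [if_neg (not_le.mpr (not_le.mp fun hc => hmin i hc hij)),
          max_eq_right (Fin.castSucc_le_castSucc_iff.mpr hij.le),
          max_eq_right (Fin.le_iff_val_le_val.mpr (by simpa using Nat.succ_le_of_lt hij)), sub_self, neg_zero]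
      · rw [if_pos (le_trans hj (𝓔.wt_strictMono.monotone hij)),
          max_eq_left (Fin.castSucc_le_castSucc_iff.mpr hij),
          max_eq_left ((Fin.castSucc_le_castSucc_iff.mpr hij).trans i.castSucc_le_succ),
          ParSh.Str.pieceX_castSucc, neg_sub]
    rw [Finset.sum_congr rfl fun i _ => hs i, Finset.sum_neg_distrib, ht]
    ring
  · rw [𝓔.at_eq_bot fun j => not_le.mp fun hc => h ⟨j, hc⟩,
      Finset.sum_eq_zero fun j _ => if_neg fun hc => h ⟨j, hc⟩, add_zero]

theorem intervalIntegrable_step (c w : ℝ) :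
    IntervalIntegrable (fun a => if a ≤ w then c else 0) volume 0 1 := by
  rw [intervalIntegrable_iff]
  exact ((integrableOn_const (μ := volume) (s := Set.uIoc (0 : ℝ) 1) (C := c)
    (measure_Ioc_lt_top (a := min (0 : ℝ) 1) (b := max 0 1)).ne).indicator measurableSet_Iic :
    IntegrableOn ((Set.Iic w).indicator fun _ => c) _ volume)

theorem intervalIntegrable_at (𝓔 : ParSh.Str E) (f : Subobject E → ℝ) :
    IntervalIntegrable (fun a => f (𝓔.at a)) volume 0 1 := by
  rw [funext (at_eq_sum 𝓔 f)]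
  refine intervalIntegrable_const.add ?_
  have := IntervalIntegrable.sum (f := fun (j : Fin (𝓔.l + 1)) (a : ℝ) =>
      if a ≤ 𝓔.wt j then f (𝓔.piece j) - f (𝓔.pieceX j.succ) else 0) Finset.univ
    fun j _ => intervalIntegrable_step _ _
  simpa [Finset.sum_fn] using this

/-- The weighted sum of the jumps as an integral. -/
theorem integral_at (𝓔 : ParSh.Str E) (f : Subobject E → ℝ) :
    ∫ a in (0 : ℝ)..1, f (𝓔.at a) =
      f 𝓔.bot + ∑ j : Fin (𝓔.l + 1), 𝓔.wt j * (f (𝓔.piece j) - f (𝓔.pieceX j.succ)) := by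
  rw [funext (at_eq_sum 𝓔 f), intervalIntegral.integral_add intervalIntegrable_const ?_,
    intervalIntegral.integral_finsetSum fun j _ => intervalIntegrable_step _ _]
  · simp only [intervalIntegral.integral_const, sub_zero, one_smul]
    refine congrArg _ (Finset.sum_congr rfl fun j _ => ?_)
    obtain ⟨h0, h1⟩ := ParHilbLib.wt_bounds 𝓔 j
    refine (intervalIntegral.integral_indicator (f := fun _ => f (𝓔.piece j) - f (𝓔.pieceX j.succ))
      ⟨h0, h1.le⟩ : ∫ a in (0 : ℝ)..1, (Set.Iic (𝓔.wt j)).indicator _ a = _).trans ?_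
    simp [mul_sub]
  · have := IntervalIntegrable.sum (f := fun (j : Fin (𝓔.l + 1)) (a : ℝ) =>
        if a ≤ 𝓔.wt j then f (𝓔.piece j) - f (𝓔.pieceX j.succ) else 0) Finset.univ
      fun j _ => intervalIntegrable_step _ _
    simpa [Finset.sum_fn] using this

theorem induced_at {W : X.Modules} (𝓔 : ParSh.Str E) (ι : W ⟶ E) (a : ℝ) :
    (𝓔.induced ι).at a = (Subobject.pullback ι).obj (𝓔.at a) := by
  by_cases h : ∃ j, a ≤ 𝓔.wt j
  · obtain ⟨j, hj, hmin⟩ := wellFounded_lt.has_min {j : Fin (𝓔.l + 1) | a ≤ 𝓔.wt j} h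
    have hlt : ∀ j' < j, 𝓔.wt j' < a := fun j' hj' => not_le.mp fun hc => hmin j' hc hj'
    exact ((𝓔.induced ι).at_eq_piece j hj hlt).trans (congrArg _ (𝓔.at_eq_piece j hj hlt).symm)
  · have hlt : ∀ j, 𝓔.wt j < a := fun j => not_le.mp fun hc => h ⟨j, hc⟩
    exact ((𝓔.induced ι).at_eq_bot hlt).trans (congrArg _ (𝓔.at_eq_bot hlt).symm)

theorem coinduced_at (𝓔 : ParSh.Str E) (q : E ⟶ G) [Epi q] (a : ℝ) :
    (𝓔.coinduced q).at a = imageSubobject ((𝓔.at a).arrow ≫ q) := by
  by_cases h : ∃ j, a ≤ 𝓔.wt j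
  · obtain ⟨j, hj, hmin⟩ := wellFounded_lt.has_min {j : Fin (𝓔.l + 1) | a ≤ 𝓔.wt j} h
    have hlt : ∀ j' < j, 𝓔.wt j' < a := fun j' hj' => not_le.mp fun hc => hmin j' hc hj'
    exact ((𝓔.coinduced q).at_eq_piece j hj hlt).trans
      (congrArg (fun b : Subobject E => imageSubobject (b.arrow ≫ q)) (𝓔.at_eq_piece j hj hlt).symm)
  · have hlt : ∀ j, 𝓔.wt j < a := fun j => not_le.mp fun hc => h ⟨j, hc⟩
    exact ((𝓔.coinduced q).at_eq_bot hlt).trans
      (congrArg (fun b : Subobject E => imageSubobject (b.arrow ≫ q)) (𝓔.at_eq_bot hlt).symm)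

end CurvParLib
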