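import Groth.Agent.CurvParLib.Euler
import Groth.Agent.CurvParLib.Integral
import Groth.Agent.CurveVBLib.Basic
import Groth.Agent.CurveVBLib.Integral
import Groth.Agent.CurvLib.Divisor
import Groth.Agent.IntMultLib.Components
import Groth.Agent.SurfExtLib.CBGeom

/-!
# The parabolic degree on a curve
-/

set_option autoImplicit false
set_option linter.style.haveILetI false
set_option maxHeartbeats 800000
universe u

open CategoryTheory CategoryTheory.Limits AlgebraicGeometry TopologicalSpace Opposite MeasureTheory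
open DevissLib QCohLib
open CurvLib (genRank)

noncomputable section

namespace CurvParLib

variable {X : Scheme.{u}} {k : Type u} [Field k] [X.Over (Spec (CommRingCat.of k))]

/-- The parabolic degree as an integral. -/
theorem parDeg_eq {E : X.Modules} (𝓔 : ParSh.Str E) (r : ℕ) :
    𝓔.parDeg k X r = (Curv2.deg k X E r : ℝ) - (Curv2.euler k X (𝓔.bot : X.Modules) : ℝ) +
      ∫ a in (0 : ℝ)..1, (Curv2.euler k X (𝓔.at a : X.Modules) : ℝ) := by
  rw [integral_at 𝓔 fun A : Subobject E => (Curv2.euler k X (A : X.Modules) : ℝ),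
    ParSh.Str.parDeg, ParSh.Str.parWt]
  ring

theorem genericPoint_notMem_support [IsIntegral X] [IsNoetherian X] {F : X.Modules} (hF : Coh.IsCoh F)
    (h : genRank F = 0) : genericPoint X ∉ CohB1.support F := by
  letI : Field (X.presheaf.stalk (genericPoint X)) := (inferInstance : Field X.functionField)
  haveI := DevissLib.isNoetherian_stalk hF (genericPoint X)
  exact fun hx => hx (
    haveI : Module.Finite (X.presheaf.stalk (genericPoint X)) (F.presheaf.stalk (genericPoint X)) :=
      inferInstanceAs (Module.Finite _ ((St (genericPoint X)).obj F))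
    (Module.finrank_zero_iff (R := X.presheaf.stalk (genericPoint X))).mp h)

theorem genericPoint_notMem_divisor [IsIntegral X] {I : X.IdealSheafData} (hD : BlowUp.IsEffCartierIdeal I) :
    genericPoint X ∉ (I.support : Set X) := fun h => by
  obtain ⟨η, hη, hne⟩ := CurvLib.exists_generization_of_mem hD h
  exact hne (hη.antisymm (genericPoint_specializes η)).eq

variable [IsProper (X ↘ Spec (CommRingCat.of k))]

theorem dim_le_zero [IsIntegral X] (hdim : topologicalKrullDim X = 1) {T : Set X} (hT : IsClosed T)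
    (hη : genericPoint X ∉ T) : topologicalKrullDim T ≤ 0 :=
  CurvLib.dim_le_zero_of_no_maximal hdim.le hT fun x hx =>
    ⟨genericPoint X, genericPoint_specializes x, fun e => hη (e ▸ hx)⟩

theorem map_top_of_notMem {A B : X.Modules} (f : A ⟶ B) {x : X} (hx : x ∉ CohB1.support (cokernel f)) :
    LinearMap.range ((St x).map f).hom = ⊤ := by
  refine (range_eq_ker (ShortComplex.exact_cokernel f) x).trans (LinearMap.ker_eq_top.mpr ?_)
  haveI : Subsingleton ((St x).obj (cokernel f)) := not_not.mp hx
  exact LinearMap.ext fun _ => Subsingleton.elim _ _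

theorem imageSubobject_le_pullback {E F V : X.Modules} (u : V ⟶ F) (q : E ⟶ V) (a : Subobject E)
    (b : Subobject F) (h : b.Factors (a.arrow ≫ q ≫ u)) :
    imageSubobject (a.arrow ≫ q) ≤ (Subobject.pullback u).obj b :=
  imageSubobject_le _ ((Subobject.isPullback u b).lift (b.factorThru _ h) (a.arrow ≫ q)
    (by rw [Subobject.factorThru_arrow, Category.assoc])) (IsPullback.lift_snd _ _ _ _)

theorem smul_top_map {R M N : Type*} [CommRing R] [AddCommGroup M] [AddCommGroup N] [Module R M] [Module R N]
    (f : M →ₗ[R] N) (hf : Function.Surjective f) (J : Ideal R) :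
    (J • (⊤ : Submodule R M)).map f = J • (⊤ : Submodule R N) := by
  rw [Submodule.map_smul'', Submodule.map_top, LinearMap.range_eq_top.mpr hf]

variable [IsIntegral X] (hdim : topologicalKrullDim X = 1) {I : X.IdealSheafData} (hD : BlowUp.IsEffCartierIdeal I)

include hdim hD in
/-- The image has smaller parabolic degree than its saturation. -/
theorem parDeg_image_le {E F V V' : X.Modules} {r'' : ℕ} (hE : FlatMod.IsFinLocFree E) (hF : FlatMod.IsFinLocFree F)
    (𝓔 : ParSh.Str E) (h𝓔 : 𝓔.Along I) (𝓕 : ParSh.Str F) (h𝓕 : 𝓕.Along I)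
    (φ : E ⟶ F) (hφ : ParSh.IsParHom 𝓔 𝓕 φ)
    (q : E ⟶ V) [Epi q] (u : V ⟶ V') [Mono u] (ι : V' ⟶ F) [Mono ι] (hfac : q ≫ u ≫ ι = φ)
    (hV : FlatMod.IsFinLocFreeOfRank r'' V) (hV' : FlatMod.IsFinLocFreeOfRank r'' V')
    (hsat : FlatMod.IsFinLocFree (cokernel ι)) :
    (𝓔.coinduced q).parDeg k X r'' ≤ (𝓕.induced ι).parDeg k X r'' := by
  haveI := CurvLib.isNoetherian k (X := X)
  have hEc : Coh.IsCoh E := CurvLib.isCoh_of_locFree (CurveVBLib.rank_genRank hE)
  have hVc : Coh.IsCoh V := CurvLib.isCoh_of_locFree hV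
  have hV'c : Coh.IsCoh V' := CurvLib.isCoh_of_locFree hV'
  have hcu := QCohLib.isCoh_cokernel u hVc.1 hV'c
  have hcu0 : genRank (cokernel u) = 0 := by
    have := CurveVBLib.genRank_mono u hVc hV'c
    rw [CurveVBLib.genRank_eq hV, CurveVBLib.genRank_eq hV'] at this
    omega
  have hcl : IsClosed ((I.support : Set X) ∪ CohB1.support (cokernel u)) :=
    I.support.isClosed.union (QCohLib.isClosed_support _ hcu.2)
  have hd := dim_le_zero hdim hcl (fun h => h.elim (genericPoint_notMem_divisor hD)
    (genericPoint_notMem_support hcu hcu0))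
  have hTw : Coh.IsCoh (CohB1.tensorMod E (ClSub.idealMod I)) := by
    let e : CohB1.tensorMod (ClSub.idealMod I) E ≅ CohB1.tensorMod E (ClSub.idealMod I) :=
      (KFlatLib.tensSwap E (ClSub.idealMod I))
    exact QCohLib.isCoh_of_iso e (IntMultLib.isCoh_tensor_locFree (CurveVBLib.rank_genRank hE) (SurfExtLib.isCoh_idealMod I))
  have hsI : CohB1.support (cokernel (ParSh.twistMap I E)) ⊆ (I.support : Set X) := fun x hx => by
    by_contra h
    exact ParHilbLib.notMem_support_coker_twist I E h hx
  have hsurj : ∀ x, x ∉ (I.support : Set X) →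
      LinearMap.range ((St x).map (ParSh.twistMap I E ≫ q)).hom = ⊤ := fun x hx => by
    rw [range_comp, map_top_of_notMem _ fun h => hx (hsI h), Submodule.map_top,
      LinearMap.range_eq_top.mpr (stalk_surjective q x)]
  let C' : Colen V' :=
    { src := _, map := (ParSh.twistMap I E ≫ q) ≫ u, T := _, closed := hcl, dim := hd, cohM := hV'c, cohS := hTw
      supp := fun x hx => by
        by_contra h
        refine notMem_support_cokernel _ x (LinearMap.range_eq_top.mp ?_) hx
        rw [range_comp, hsurj x fun h' => h (Or.inl h'), Submodule.map_top,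
          map_top_of_notMem u fun h' => h (Or.inr h')] }
  let C : Colen V :=
    { src := _, map := ParSh.twistMap I E ≫ q, T := _, closed := hcl, dim := hd, cohM := hVc, cohS := hTw
      supp := fun x hx => by
        by_contra h
        exact notMem_support_cokernel _ x (LinearMap.range_eq_top.mp (hsurj x fun h' => h (Or.inl h'))) hx }
  have hC : ∀ a, imageSubobject C.map ≤ imageSubobject ((𝓔.at a).arrow ≫ q) := fun a => by
    refine imageSubobject_le _ (factorThruImageSubobject (ParSh.twistMap I E) ≫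
      Subobject.ofLE _ _ ((le_of_eq h𝓔.symm).trans (𝓔.bot_le_at a)) ≫ factorThruImageSubobject ((𝓔.at a).arrow ≫ q)) ?_
    rw [Category.assoc, Category.assoc, imageSubobject_arrow_comp]
    refine (congrArg _ (Subobject.ofLE_arrow_assoc _ q)).trans ?_
    exact imageSubobject_arrow_comp_assoc _ _
  have hC' : ∀ A : Subobject V, imageSubobject C.map ≤ A →
      imageSubobject C'.map ≤ Subobject.mk (A.arrow ≫ u) := fun A hA => by
    refine imageSubobject_le _ (factorThruImageSubobject C.map ≫ Subobject.ofLE _ _ hA ≫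
      (Subobject.underlyingIso (A.arrow ≫ u)).inv) ?_
    simp only [Category.assoc, Subobject.underlyingIso_arrow, Subobject.ofLE_arrow_assoc]
    exact imageSubobject_arrow_comp_assoc _ _
  have hle : ∀ a : ℝ, 0 ≤ a → a ≤ 1 →
      Subobject.mk ((imageSubobject ((𝓔.at a).arrow ≫ q)).arrow ≫ u) ≤ (Subobject.pullback ι).obj (𝓕.at a) := by
    intro a h0 h1
    have hA : imageSubobject ((𝓔.at a).arrow ≫ q) ≤
        (Subobject.pullback u).obj ((Subobject.pullback ι).obj (𝓕.at a)) := by
      rw [← Subobject.pullback_comp]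
      refine imageSubobject_le_pullback (u ≫ ι) q _ _ ?_
      rw [hfac]
      exact hφ a h0 h1
    refine Subobject.mk_le_of_comm (Subobject.ofLE _ _ hA ≫ Subobject.pullbackπ u _) ?_
    rw [Category.assoc, (Subobject.isPullback u _).w, Subobject.ofLE_arrow_assoc]
  have hχ : ∀ A : Subobject V, Curv2.euler k X ((Subobject.mk (A.arrow ≫ u) : Subobject V') : X.Modules) =
      Curv2.euler k X (A : X.Modules) := fun A =>
    CurvLib.euler_congr (Subobject.underlyingIso (A.arrow ≫ u))
  have hpt : ∀ a : ℝ, 0 ≤ a → a ≤ 1 → Curv2.euler k X ((𝓔.coinduced q).at a : X.Modules) ≤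
      Curv2.euler k X ((𝓕.induced ι).at a : X.Modules) := fun a h0 h1 => by
    rw [coinduced_at, induced_at, ← hχ]
    exact euler_mono C' (hC' _ (hC a)) hdim (hle a h0 h1)
  have hint : ∫ a in (0 : ℝ)..1, (Curv2.euler k X ((𝓔.coinduced q).at a : X.Modules) : ℝ) ≤
      ∫ a in (0 : ℝ)..1, (Curv2.euler k X ((𝓕.induced ι).at a : X.Modules) : ℝ) :=
    intervalIntegral.integral_mono_on zero_le_one
      (intervalIntegrable_at (𝓔.coinduced q) fun A => (Curv2.euler k X (A : X.Modules) : ℝ))
      (intervalIntegrable_at (𝓕.induced ι) fun A => (Curv2.euler k X (A : X.Modules) : ℝ))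
      fun a ha => Int.cast_le.mpr (hpt a ha.1 ha.2)
  -- the bottoms have the same colength
  have hb : ∀ (a : ℝ), 1 ≤ a → 𝓔.at a = 𝓔.bot ∧ 𝓕.at a = 𝓕.bot := fun a ha =>
    ⟨𝓔.at_eq_bot fun j => (ParHilbLib.wt_bounds 𝓔 j).2.trans_le ha,
      𝓕.at_eq_bot fun j => (ParHilbLib.wt_bounds 𝓕 j).2.trans_le ha⟩
  have h1 := hC' _ (hC 1)
  have h2 := h1.trans (hle 1 zero_le_one le_rfl)
  rw [(hb 1 le_rfl).2] at h2
  have h3 := hC 1
  rw [(hb 1 le_rfl).1] at h3
  have hbot : Curv2.euler k X V - Curv2.euler k X ((𝓔.coinduced q).bot : X.Modules) =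
      Curv2.euler k X V' - Curv2.euler k X ((𝓕.induced ι).bot : X.Modules) := by
    change _ - Curv2.euler k X ((imageSubobject (𝓔.bot.arrow ≫ q) : Subobject V) : X.Modules) =
      _ - Curv2.euler k X (((Subobject.pullback ι).obj 𝓕.bot : Subobject V') : X.Modules)
    rw [euler_sub C h3 hdim, euler_sub C' h2 hdim, sub_sub_cancel, sub_sub_cancel, Nat.cast_inj]
    refine Finset.sum_congr rfl fun x _ => ?_
    obtain ⟨e⟩ := CurvLib.nonempty_stalk_pi_of_locFree hV x
    obtain ⟨e'⟩ := CurvLib.nonempty_stalk_pi_of_locFree hV' x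
    obtain ⟨ec⟩ := CurvLib.nonempty_stalk_pi_of_locFree (CurveVBLib.rank_genRank hsat) x
    refine dimQ_eq_of_equiv k _ _ x (e.trans e'.symm) ?_
    rw [rng_image, range_comp, show 𝓔.bot = ParSh.twistSub I E from h𝓔, show LinearMap.range ((St x).map (ParSh.twistSub I E).arrow).hom = Jst I x • (⊤ : Submodule _ ((St x).obj E)) from rng_twistSub I E x, rng_pullback,
      show 𝓕.bot = ParSh.twistSub I F from h𝓕, rng_twistSub, smul_top_map _ (stalk_surjective q x)]
    haveI := Module.Projective.of_equiv ec.symm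
    haveI : Mono ((St x).map ι) := inferInstance
    rw [comap_smul_top ((St x).map ι).hom ((St x).map (cokernel.π ι)).hom
      ((ModuleCat.mono_iff_injective _).mp inferInstance) (stalk_surjective _ x)
      (range_eq_ker (ShortComplex.exact_cokernel ι) x)]
    exact smul_top_map _ (e.trans e'.symm).surjective _
  rw [parDeg_eq, parDeg_eq]
  have hbot' := congrArg (fun n : ℤ => (n : ℝ)) hbot
  simp only [Int.cast_sub] at hbot'
  simp only [Curv2.deg, Int.cast_sub]
  linarith

end CurvParLib
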