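import Groth.Agent.CurvParLib.Stalk
import Groth.Agent.CurvLib.EulerTensor

/-!
# Euler characteristics of subobjects of finite colength on a curve
-/

set_option autoImplicit false
set_option linter.style.haveILetI false
set_option maxHeartbeats 800000
universe u

open CategoryTheory CategoryTheory.Limits AlgebraicGeometry TopologicalSpace Opposite
open DevissLib QCohLib

noncomputable section

namespace CurvParLib

variable {X : Scheme.{u}} [IsIntegral X] {k : Type u} [Field k] [X.Over (Spec (CommRingCat.of k))]
  [IsProper (X ↘ Spec (CommRingCat.of k))]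

/-- A finite closed set of dimension zero containing the support of a quotient by a coherent module. -/
structure Colen (M : X.Modules) where
  /-- the source -/
  src : X.Modules
  /-- the map -/
  map : src ⟶ M
  /-- the finite set -/
  T : Set X
  closed : IsClosed T
  dim : topologicalKrullDim T ≤ 0
  cohM : Coh.IsCoh M
  cohS : Coh.IsCoh src
  supp : CohB1.support (cokernel map) ⊆ T

/-- The finite set. -/
theorem Colen.finite {M : X.Modules} (C : Colen M) (k : Type u) [Field k] [X.Over (Spec (CommRingCat.of k))]
    [IsProper (X ↘ Spec (CommRingCat.of k))] : C.T.Finite ∧ ∀ x ∈ C.T, IsClosed ({x} : Set X) := by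
  haveI := CurvLib.isNoetherian k (X := X)
  exact CurvLib.finite_isClosed_of_dim_le_zero C.closed C.dim

variable {M : X.Modules} (C : Colen M) {A : Subobject M} (hA : imageSubobject C.map ≤ A)

include hA in
theorem stalk_finite (x : X) :
    CohB1.support (cokernel A.arrow) ⊆ C.T ∧
      (letI := CurvLib.stalkModule (k := k) (cokernel A.arrow) x; Module.Finite k ((St x).obj (cokernel A.arrow))) := by
  haveI := CurvLib.isNoetherian k (X := X)
  let q : cokernel C.map ⟶ cokernel A.arrow := cokernel.desc _ (cokernel.π A.arrow) (by
    rw [← imageSubobject_arrow_comp C.map, ← Subobject.ofLE_arrow hA, Category.assoc, Category.assoc,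
      cokernel.condition, comp_zero, comp_zero])
  haveI : Epi (cokernel.π C.map ≫ q) := by rw [cokernel.π_desc]; infer_instance
  haveI : Epi q := epi_of_epi (cokernel.π C.map) q
  have hc := QCohLib.isCoh_cokernel C.map C.cohS.1 C.cohM
  haveI := CurvLib.finite_HH (k := k) hc 0
  obtain ⟨hT, hTc⟩ := C.finite k
  exact ⟨(support_epi q).trans C.supp,
    (stalkDim_le_of_epi k q x (CurvLib.finite_stalk (k := k) (cokernel C.map) hT hTc C.supp x)).1⟩

theorem finiteCoh_of_finite_support (N : X.Modules) {T : Set X} (hTcl : IsClosed T)
    (hTd : topologicalKrullDim T ≤ 0) (hN : CohB1.support N ⊆ T)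
    (hfin : ∀ x : X, letI := CurvLib.stalkModule (k := k) N x; Module.Finite k ((St x).obj N)) :
    AtlasCoh.FiniteCoh (X ↘ Spec (CommRingCat.of k)) N := by
  haveI := CurvLib.isNoetherian k (X := X)
  obtain ⟨hT, hTc⟩ := CurvLib.finite_isClosed_of_dim_le_zero hTcl hTd
  intro p
  rcases p with _ | p
  · letI := CurvLib.secModule (k := k) N
    letI := fun x : T => CurvLib.stalkModule (k := k) N x.1
    haveI := fun x : T => hfin x.1
    haveI : Fintype T := hT.fintype
    exact Module.Finite.equiv ((CurvLib.hhZeroEquiv (k := k) N).trans (CurvLib.secStalksEquiv N hT hTc hN)).symm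
  · haveI := CurvLib.subsingleton_HH_of_support N hTcl hN (d := 0) (by exact_mod_cast hTd) (p + 1) (by omega)
    exact Module.Finite.of_finite

include hA in
/-- The Euler characteristic of a subobject of finite colength. -/
theorem euler_sub (hdim : topologicalKrullDim X = 1) :
    Curv2.euler k X (A : X.Modules) = Curv2.euler k X M -
      ((∑ x ∈ (C.finite k).1.toFinset, dimQ k A x : ℕ) : ℤ) := by
  have hs := fun x => stalk_finite (k := k) C hA x
  have hf : ∀ x : X, letI := CurvLib.stalkModule (k := k) (cokernel A.arrow) x;
      Module.Finite k ((St x).obj (cokernel A.arrow)) := fun x => (hs x).2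
  have hsupp := (hs (Classical.arbitrary X)).1
  let S : ShortComplex X.Modules := ShortComplex.mk A.arrow (cokernel.π A.arrow) (cokernel.condition _)
  have hS : S.ShortExact :=
    { exact := ShortComplex.exact_cokernel A.arrow
      mono_f := inferInstanceAs (Mono A.arrow)
      epi_g := inferInstanceAs (Epi (cokernel.π A.arrow)) }
  have hM : AtlasCoh.FiniteCoh (X ↘ Spec (CommRingCat.of k)) M := fun q => CurvLib.finite_HH (k := k) C.cohM q
  have hQ := finiteCoh_of_finite_support (k := k) (cokernel A.arrow) C.closed C.dim hsupp hf
  have h := CurvLib.euler_add_of_finiteCoh (k := k) hdim hS (AtlasCoh.FiniteCoh.left hS hM hQ) hM hQ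
  rw [show Curv2.euler k X S.X₂ = Curv2.euler k X M from rfl,
    show Curv2.euler k X S.X₃ = Curv2.euler k X (cokernel A.arrow) from rfl,
    CurvLib.euler_eq_sum_stalks (cokernel A.arrow) (C.finite k).1 C.closed C.dim hsupp hf] at h
  change _ = Curv2.euler k X (A : X.Modules) + _ at h
  exact eq_sub_of_add_eq h.symm

include hA in
/-- A larger subobject has a larger Euler characteristic. -/
theorem euler_mono (hdim : topologicalKrullDim X = 1) {B : Subobject M} (hAB : A ≤ B) :
    Curv2.euler k X (A : X.Modules) ≤ Curv2.euler k X (B : X.Modules) := by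
  rw [euler_sub C hA hdim, euler_sub C (hA.trans hAB) hdim]
  refine sub_le_sub_left (Int.ofNat_le.mpr (Finset.sum_le_sum fun x _ => ?_)) _
  let q : cokernel A.arrow ⟶ cokernel B.arrow := cokernel.desc _ (cokernel.π B.arrow)
    (by rw [← Subobject.ofLE_arrow hAB, Category.assoc, cokernel.condition, comp_zero])
  haveI : Epi (cokernel.π A.arrow ≫ q) := by rw [cokernel.π_desc]; infer_instance
  haveI : Epi q := epi_of_epi (cokernel.π A.arrow) q
  exact (stalkDim_le_of_epi k q x (stalk_finite (k := k) C hA x).2).2

end CurvParLib
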