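import Groth.Agent.CurveVBLib.Line

/-!
# Saturation, with the inclusion
-/

set_option autoImplicit false
universe u

open CategoryTheory CategoryTheory.Limits AlgebraicGeometry TopologicalSpace Opposite
open DevissLib CurvLib QCohLib

noncomputable section

namespace CurvParLib

open CurveVBLib

variable {X : Scheme.{u}} [IsIntegral X] {k : Type u} [Field k] [X.Over (Spec (CommRingCat.of k))]
  [IsProper (X ↘ Spec (CommRingCat.of k))] [Smooth (X ↘ Spec (CommRingCat.of k))]
  (hdim : topologicalKrullDim X = 1)

include k hdim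

/-- Saturation of a submodule of a bundle. -/
theorem exists_saturation_comp {r : ℕ} {E : X.Modules} (hE : FlatMod.IsFinLocFreeOfRank r E) {G : X.Modules}
    (i : G ⟶ E) [Mono i] (hG : Coh.IsCoh G) :
    ∃ (Q : X.Modules) (p : E ⟶ Q), Epi p ∧ i ≫ p = 0 ∧ FlatMod.IsFinLocFreeOfRank (genRank Q) Q ∧ r = genRank G + genRank Q ∧
      dg k G + dg k Q ≤ dg k E := by
  haveI := CurvLib.isNoetherian k (X := X)
  have hEc := CurvLib.isCoh_of_locFree hE
  obtain ⟨-, hC, hrk, hdg, -⟩ := sub_data (k := k) hdim hE i hG
  have hT := isCoh_torSub hC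
  have hrT := genRank_torSub (cokernel i)
  obtain ⟨hTd, -⟩ := dg_nonneg_of_rank_zero (k := k) hdim hT hrT
  let t := (torSub (cokernel i)).ι
  have hQ := QCohLib.isCoh_cokernel t hT.1 hC
  let S : ShortComplex X.Modules := ShortComplex.mk t (cokernel.π t) (cokernel.condition t)
  have hS : S.ShortExact :=
    { exact := ShortComplex.exact_of_g_is_cokernel _ (cokernelIsCokernel t)
      mono_f := inferInstanceAs (Mono t)
      epi_g := inferInstanceAs (Epi (cokernel.π t)) }
  have r2 : genRank (cokernel i) = genRank (torSub (cokernel i)).toModules + genRank (cokernel t) :=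
    genRank_add (S := S) hS hT hC hQ
  have d2 : dg k (cokernel i) = dg k (torSub (cokernel i)).toModules + dg k (cokernel t) :=
    dg_add (k := k) (S := S) hS hT hC hQ
  refine ⟨cokernel t, cokernel.π i ≫ cokernel.π t, inferInstance, cokernel.condition_assoc i _ |>.trans Limits.zero_comp,
    rank_genRank ((Groth.Agent.S1688.result X (fun x => regular_stalk (k := k) x) hdim.le _ hQ).mp
      (torsionFree_of_no_rank_zero hQ fun H j hj hH h0 => ?_)), by omega, by omega⟩
  -- the preimage of `H` in the cokernel consists of torsion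
  obtain ⟨hP, r3, -⟩ := epi_data (k := k) hC (QCohLib.isCoh_cokernel j hH.1 hQ) (cokernel.π t ≫ cokernel.π j)
  let S₂ : ShortComplex X.Modules := ShortComplex.mk j (cokernel.π j) (cokernel.condition j)
  have hS₂ : S₂.ShortExact :=
    { exact := ShortComplex.exact_of_g_is_cokernel _ (cokernelIsCokernel j)
      mono_f := inferInstanceAs (Mono j)
      epi_g := inferInstanceAs (Epi (cokernel.π j)) }
  have r4 : genRank (cokernel t) = genRank H + genRank (cokernel j) :=
    genRank_add (S := S₂) hS₂ hH hQ (QCohLib.isCoh_cokernel j hH.1 hQ)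
  let P := kernel (cokernel.π t ≫ cokernel.π j)
  have hP0 : genRank P = 0 := by
    change genRank (kernel (cokernel.π t ≫ cokernel.π j)) = 0
    omega
  have hle : kernel.ι (cokernel.π t ≫ cokernel.π j) ≫ cokernel.π t = 0 := by
    haveI : Subsingleton (P.presheaf.stalk (genericPoint X)) := by
      haveI := DevissLib.isNoetherian_stalk hP (genericPoint X)
      letI : Field (X.presheaf.stalk (genericPoint X)) := (inferInstance : Field X.functionField)
      haveI : Module.Finite (X.presheaf.stalk (genericPoint X)) (P.presheaf.stalk (genericPoint X)) :=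
        inferInstanceAs (Module.Finite _ ((St (genericPoint X)).obj P))
      exact (Module.finrank_zero_iff (R := X.presheaf.stalk (genericPoint X))).mp hP0
    have hmem : ∀ (U : X.Opens) (s : Γ(P, U)),
        (torSub (cokernel i)).mem U ((kernel.ι (cokernel.π t ≫ cokernel.π j)).app U s) := fun U s h => by
      refine (DerSch.stalkFunctor_map_germ _ (kernel.ι (cokernel.π t ≫ cokernel.π j)) U h s).symm.trans ?_
      exact (congrArg _ (Subsingleton.elim (α := P.presheaf.stalk (genericPoint X)) _ 0)).trans (map_zero _)
    apply Scheme.Modules.hom_ext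
    intro U
    ext s
    change (cokernel.π t).app U ((kernel.ι (cokernel.π t ≫ cokernel.π j)).app U s) = 0
    rw [← LocSub.ι_lift (torSub (cokernel i)) _ (hmem U s)]
    change (t ≫ cokernel.π t).app U _ = 0
    rw [cokernel.condition]
    rfl
  have hj0 : j = 0 := by
    obtain ⟨A, π, hπ, x, hx⟩ : ∃ (A : X.Modules) (π : A ⟶ H) (_ : Epi π) (x : A ⟶ cokernel i),
        x ≫ cokernel.π t = π ≫ j := by
      exact ⟨pullback j (cokernel.π t), pullback.fst _ _, inferInstance, pullback.snd _ _, pullback.condition.symm⟩
    have hx2 : x ≫ cokernel.π t ≫ cokernel.π j = 0 := by rw [← Category.assoc, hx, Category.assoc, cokernel.condition, comp_zero]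
    rw [← cancel_epi π, comp_zero, ← hx, ← kernel.lift_ι _ x hx2, Category.assoc, hle, comp_zero]
  exact (IsZero.iff_id_eq_zero _).mpr (by rw [← cancel_mono j, Category.id_comp, hj0, comp_zero])

end CurvParLib
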