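import Groth.Agent.CurvParLib.Deg
import Groth.Agent.CurvParLib.Sat

/-!
# Parabolic homomorphisms inside a stable parabolic bundle
-/

set_option autoImplicit false
set_option linter.style.haveILetI false
set_option maxHeartbeats 1600000
universe u

open CategoryTheory CategoryTheory.Limits AlgebraicGeometry TopologicalSpace Opposite MeasureTheory
open DevissLib QCohLib
open CurvLib (genRank)

noncomputable section

namespace CurvParLib

variable {X : Scheme.{u}}

theorem isParHom_comp {A B C : X.Modules} {𝓐 : ParSh.Str A} {𝓑 : ParSh.Str B} {𝓒 : ParSh.Str C}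
    {f : A ⟶ B} {g : B ⟶ C} (hf : ParSh.IsParHom 𝓐 𝓑 f) (hg : ParSh.IsParHom 𝓑 𝓒 g) :
    ParSh.IsParHom 𝓐 𝓒 (f ≫ g) := fun a h0 h1 => by
  rw [← Category.assoc, ← Subobject.factorThru_arrow _ _ (hf a h0 h1), Category.assoc]
  exact Subobject.factors_of_factors_right _ (hg a h0 h1)

theorem isParHom_induced {W E : X.Modules} (𝓔 : ParSh.Str E) (i : W ⟶ E) :
    ParSh.IsParHom (𝓔.induced i) 𝓔 i := fun a _ _ => by
  rw [induced_at, ← (Subobject.isPullback i (𝓔.at a)).w]
  exact Subobject.factors_of_factors_right _ (Subobject.factors_self _)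

theorem isParHom_coinduced {E G : X.Modules} (𝓔 : ParSh.Str E) (p : E ⟶ G) [Epi p] :
    ParSh.IsParHom 𝓔 (𝓔.coinduced p) p := fun a _ _ => by
  have h := Subobject.factors_of_factors_right (factorThruImageSubobject ((𝓔.at a).arrow ≫ p))
    (Subobject.factors_self (imageSubobject ((𝓔.at a).arrow ≫ p)))
  rw [coinduced_at]
  rwa [imageSubobject_arrow_comp] at h

theorem isFinLocFreeOfRank_congr {n : ℕ} {A B : X.Modules} (e : A ≅ B)
    (h : FlatMod.IsFinLocFreeOfRank n A) : FlatMod.IsFinLocFreeOfRank n B := fun x =>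
  let ⟨U, hU, ⟨f⟩⟩ := h x
  ⟨U, hU, ⟨(Scheme.Modules.restrictFunctor U.ι).mapIso e.symm ≪≫ f⟩⟩

variable [IsIntegral X] {k : Type u} [Field k] [X.Over (Spec (CommRingCat.of k))]
  [IsProper (X ↘ Spec (CommRingCat.of k))]

theorem finiteCoh_sub {M : X.Modules} (C : Colen M) {A : Subobject M} (hA : imageSubobject C.map ≤ A) :
    AtlasCoh.FiniteCoh (X ↘ Spec (CommRingCat.of k)) (A : X.Modules) := by
  have hs := fun x => stalk_finite (k := k) C hA x
  let S : ShortComplex X.Modules := ShortComplex.mk A.arrow (cokernel.π A.arrow) (cokernel.condition _)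
  have hS : S.ShortExact :=
    { exact := ShortComplex.exact_cokernel A.arrow
      mono_f := inferInstanceAs (Mono A.arrow)
      epi_g := inferInstanceAs (Epi (cokernel.π A.arrow)) }
  exact AtlasCoh.FiniteCoh.left hS (fun q => CurvLib.finite_HH (k := k) C.cohM q)
    (finiteCoh_of_finite_support (k := k) (cokernel A.arrow) C.closed C.dim (hs (Classical.arbitrary X)).1
      fun x => (hs x).2)

/-- The Euler characteristics of the intersection and of the image add up. -/
theorem euler_pullback_image (hdim : topologicalKrullDim X = 1) {E K V : X.Modules} (j : K ⟶ E) [Mono j]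
    (q : E ⟶ V) [Epi q] (w : j ≫ q = 0) (hS : (ShortComplex.mk j q w).ShortExact) (A : Subobject E)
    (hA : AtlasCoh.FiniteCoh (X ↘ Spec (CommRingCat.of k)) (A : X.Modules))
    (hI : AtlasCoh.FiniteCoh (X ↘ Spec (CommRingCat.of k))
      ((imageSubobject (A.arrow ≫ q) : Subobject V) : X.Modules)) :
    Curv2.euler k X (A : X.Modules) =
      Curv2.euler k X (((Subobject.pullback j).obj A : Subobject K) : X.Modules) +
        Curv2.euler k X ((imageSubobject (A.arrow ≫ q) : Subobject V) : X.Modules) := by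
  have sq := Subobject.isPullback j A
  have hw : Subobject.pullbackπ j A ≫ factorThruImageSubobject (A.arrow ≫ q) = 0 := by
    rw [← cancel_mono (imageSubobject (A.arrow ≫ q)).arrow, Category.assoc, imageSubobject_arrow_comp,
      ← Category.assoc, sq.w, Category.assoc, w, comp_zero, zero_comp]
  haveI : Mono (Subobject.pullbackπ j A) := by
    constructor
    intro T f g h
    refine sq.hom_ext h ?_
    rw [← cancel_mono j, Category.assoc, Category.assoc, ← sq.w, reassoc_of% h]
  haveI := hS.mono_f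
  let S : ShortComplex X.Modules := ShortComplex.mk _ _ hw
  have hS' : S.ShortExact :=
    { exact := by
        refine ShortComplex.exact_of_f_is_kernel _ (KernelFork.IsLimit.ofι' _ hw fun {T} t ht => ?_)
        have h0 : (t ≫ A.arrow) ≫ q = 0 := by
          have h := congrArg (fun r => r ≫ (imageSubobject (A.arrow ≫ q)).arrow) ht
          simp only [Category.assoc, imageSubobject_arrow_comp, zero_comp] at h
          rw [Category.assoc]; exact h
        obtain ⟨l, hl⟩ := KernelFork.IsLimit.lift' hS.fIsKernel _ h0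
        exact ⟨sq.lift t l hl.symm, sq.lift_fst _ _ _⟩
      mono_f := inferInstanceAs (Mono (Subobject.pullbackπ j A))
      epi_g := inferInstanceAs (Epi (factorThruImageSubobject (A.arrow ≫ q))) }
  exact CurvLib.euler_add_of_finiteCoh (k := k) (S := S) hdim hS' (AtlasCoh.FiniteCoh.left (S := S) hS' hA hI) hA hI

variable (hdim : topologicalKrullDim X = 1) {I : X.IdealSheafData} (hD : BlowUp.IsEffCartierIdeal I)

include hdim hD in
/-- The parabolic degree is additive in parabolic extensions. -/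
theorem parDeg_add {E K V : X.Modules} (hE : FlatMod.IsFinLocFree E) (𝓔 : ParSh.Str E) (h𝓔 : 𝓔.Along I)
    (hK : Coh.IsCoh K) (hV : Coh.IsCoh V)
    (j : K ⟶ E) [Mono j] (q : E ⟶ V) [Epi q] (w : j ≫ q = 0) (hS : (ShortComplex.mk j q w).ShortExact)
    (rK rV : ℕ) :
    𝓔.parDeg k X (rK + rV) = (𝓔.induced j).parDeg k X rK + (𝓔.coinduced q).parDeg k X rV := by
  haveI := CurvLib.isNoetherian k (X := X)
  have hEc : Coh.IsCoh E := CurvLib.isCoh_of_locFree (CurveVBLib.rank_genRank hE)
  have hcl : IsClosed (I.support : Set X) := I.support.isClosed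
  have hd := dim_le_zero hdim hcl (genericPoint_notMem_divisor hD)
  have hTw : Coh.IsCoh (CohB1.tensorMod E (ClSub.idealMod I)) := by
    let e : CohB1.tensorMod (ClSub.idealMod I) E ≅ CohB1.tensorMod E (ClSub.idealMod I) :=
      (KFlatLib.tensSwap E (ClSub.idealMod I))
    exact QCohLib.isCoh_of_iso e
      (IntMultLib.isCoh_tensor_locFree (CurveVBLib.rank_genRank hE) (SurfExtLib.isCoh_idealMod I))
  have hsI : CohB1.support (cokernel (ParSh.twistMap I E)) ⊆ (I.support : Set X) := fun x hx => by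
    by_contra h
    exact ParHilbLib.notMem_support_coker_twist I E h hx
  let C : Colen E :=
    { src := _, map := ParSh.twistMap I E, T := _, closed := hcl, dim := hd, cohM := hEc, cohS := hTw, supp := hsI }
  let C' : Colen V :=
    { src := _, map := ParSh.twistMap I E ≫ q, T := _, closed := hcl, dim := hd, cohM := hV, cohS := hTw
      supp := fun x hx => by
        by_contra h
        refine notMem_support_cokernel _ x (LinearMap.range_eq_top.mp ?_) hx
        rw [range_comp, map_top_of_notMem _ fun h' => h (hsI h'), Submodule.map_top,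
          LinearMap.range_eq_top.mpr (stalk_surjective q x)] }
  have hA : ∀ a, imageSubobject C.map ≤ 𝓔.at a := fun a => (le_of_eq h𝓔.symm).trans (𝓔.bot_le_at a)
  have hA' : ∀ a, imageSubobject C'.map ≤ imageSubobject ((𝓔.at a).arrow ≫ q) := fun a => by
    refine imageSubobject_le _ (factorThruImageSubobject (ParSh.twistMap I E) ≫
      Subobject.ofLE _ _ (hA a) ≫ factorThruImageSubobject ((𝓔.at a).arrow ≫ q)) ?_
    rw [Category.assoc, Category.assoc, imageSubobject_arrow_comp]
    refine (congrArg _ (Subobject.ofLE_arrow_assoc _ q)).trans ?_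
    exact imageSubobject_arrow_comp_assoc _ _
  have key : ∀ a, (Curv2.euler k X (𝓔.at a : X.Modules) : ℝ) =
      (Curv2.euler k X ((𝓔.induced j).at a : X.Modules) : ℝ) +
        (Curv2.euler k X ((𝓔.coinduced q).at a : X.Modules) : ℝ) := fun a => by
    rw [induced_at, coinduced_at, ← Int.cast_add, Int.cast_inj]
    exact euler_pullback_image hdim j q w hS (𝓔.at a) (finiteCoh_sub C (hA a)) (finiteCoh_sub C' (hA' a))
  have hbot : ∀ {T : X.Modules} (𝓣 : ParSh.Str T), 𝓣.at 1 = 𝓣.bot := fun 𝓣 =>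
    𝓣.at_eq_bot fun i => (ParHilbLib.wt_bounds 𝓣 i).2
  have hb := key 1
  rw [hbot, hbot, hbot] at hb
  have hi : ∫ a in (0 : ℝ)..1, (Curv2.euler k X (𝓔.at a : X.Modules) : ℝ) =
      (∫ a in (0 : ℝ)..1, (Curv2.euler k X ((𝓔.induced j).at a : X.Modules) : ℝ)) +
        ∫ a in (0 : ℝ)..1, (Curv2.euler k X ((𝓔.coinduced q).at a : X.Modules) : ℝ) := by
    rw [← intervalIntegral.integral_add
      (intervalIntegrable_at (𝓔.induced j) fun A => (Curv2.euler k X (A : X.Modules) : ℝ))
      (intervalIntegrable_at (𝓔.coinduced q) fun A => (Curv2.euler k X (A : X.Modules) : ℝ))]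
    exact intervalIntegral.integral_congr fun a _ => key a
  have he : Curv2.euler k X E = Curv2.euler k X K + Curv2.euler k X V :=
    CurvLib.euler_add_of_isCoh (k := k) (S := ShortComplex.mk j q w) hS hK hEc hV
  rw [parDeg_eq, parDeg_eq, parDeg_eq, hi, hb]
  simp only [Curv2.deg, he]
  push_cast
  ring

include hdim hD in
/-- Parabolic homomorphisms from the quotient to the subobject of a stable bundle vanish. -/
theorem hom_eq_zero [Smooth (X ↘ Spec (CommRingCat.of k))]
    {F F' F'' : X.Modules} (r : ℕ) (hF : FlatMod.IsFinLocFreeOfRank r F)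
    (𝓕 : ParSh.Str F) (h𝓕 : 𝓕.Along I) (hst : ParSh.IsParStable k X 𝓕 r)
    (i : F' ⟶ F) (p : F ⟶ F'') [Epi p] (𝓕' : ParSh.Str F') (𝓕'' : ParSh.Str F'')
    (hext : ParSh.IsParExt i p 𝓕' 𝓕 𝓕'') (hF' : FlatMod.IsFinLocFree F') (hF'' : FlatMod.IsFinLocFree F'')
    (φ : F'' ⟶ F') (hφ : ParSh.IsParHom 𝓕'' 𝓕' φ) : φ = 0 := by
  haveI := CurvLib.isNoetherian k (X := X)
  obtain ⟨w, hS, rfl, rfl⟩ := hext
  haveI := hS.mono_f
  by_contra hne
  have hFl := CurveVBLib.isFinLocFree_of_rank hF
  have hFc : Coh.IsCoh F := CurvLib.isCoh_of_locFree hF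
  have hF'c : Coh.IsCoh F' := CurvLib.isCoh_of_locFree (CurveVBLib.rank_genRank hF')
  have hF''c : Coh.IsCoh F'' := CurvLib.isCoh_of_locFree (CurveVBLib.rank_genRank hF'')
  have hψ : ParSh.IsParHom 𝓕 𝓕 (p ≫ φ ≫ i) :=
    isParHom_comp (isParHom_coinduced 𝓕 p) (isParHom_comp hφ (isParHom_induced 𝓕 i))
  have hV : Coh.IsCoh (Abelian.image φ) := DevissLib.isCoh_image φ hF''c hF'c
  haveI : Mono (Abelian.image.ι φ ≫ i) := mono_comp _ _
  obtain ⟨hVr, -, -, -, hV0⟩ := CurveVBLib.sub_data (k := k) hdim hF (Abelian.image.ι φ ≫ i) hV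
  have hpos : 0 < genRank (Abelian.image φ) := Nat.pos_of_ne_zero fun h => hne (by
    rw [← Abelian.image.fac φ, (hV0 h).eq_of_src (Abelian.image.ι φ) 0, comp_zero])
  obtain ⟨Q, pQ, _, hpQ, hQ, hrQ, -⟩ := exists_saturation_comp (k := k) hdim hF (Abelian.image.ι φ ≫ i) hV
  have hQc : Coh.IsCoh Q := CurvLib.isCoh_of_locFree hQ
  obtain ⟨hV'c, hrV', -⟩ := CurveVBLib.epi_data (k := k) hFc hQc pQ
  obtain ⟨hV'r, -, -, -, -⟩ := CurveVBLib.sub_data (k := k) hdim hF (kernel.ι pQ) hV'c
  rw [CurveVBLib.genRank_eq hF] at hrV'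
  have hrk : genRank (kernel pQ) = genRank (Abelian.image φ) := by omega
  rw [hrk] at hV'r
  let u : Abelian.image φ ⟶ kernel pQ := kernel.lift pQ (Abelian.image.ι φ ≫ i) hpQ
  haveI : Mono u := mono_of_mono_fac (kernel.lift_ι pQ _ hpQ)
  haveI : Epi (p ≫ Abelian.factorThruImage φ) := epi_comp _ _
  have hsat : FlatMod.IsFinLocFree (cokernel (kernel.ι pQ)) := CurveVBLib.isFinLocFree_of_rank
    (isFinLocFreeOfRank_congr ((cokernelIsCokernel (kernel.ι pQ)).coconePointUniqueUpToIso
      (Abelian.epiIsCokernelOfKernel (KernelFork.ofι (kernel.ι pQ) (kernel.condition pQ)) (kernelIsKernel pQ))).symm hQ)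
  have hle := parDeg_image_le (k := k) hdim hD hFl hFl 𝓕 h𝓕 𝓕 h𝓕 _ hψ (p ≫ Abelian.factorThruImage φ) u
    (kernel.ι pQ) (by simp only [u, kernel.lift_ι, Category.assoc]; rw [← Category.assoc (Abelian.factorThruImage φ), Abelian.image.fac]) hVr hV'r hsat
  obtain ⟨hKc, hrK, -⟩ := CurveVBLib.epi_data (k := k) hFc hV (p ≫ Abelian.factorThruImage φ)
  obtain ⟨hKr, -, -, -, -⟩ :=
    CurveVBLib.sub_data (k := k) hdim hF (kernel.ι (p ≫ Abelian.factorThruImage φ)) hKc
  rw [CurveVBLib.genRank_eq hF] at hrK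
  -- the rank of the image is smaller than that of `F`
  obtain ⟨-, h1, -⟩ := CurveVBLib.epi_data (k := k) hFc hF''c p
  obtain ⟨-, h2, -⟩ := CurveVBLib.epi_data (k := k) hF''c hV (Abelian.factorThruImage φ)
  obtain ⟨-, -, h3, -, -⟩ := CurveVBLib.sub_data (k := k) hdim (CurveVBLib.rank_genRank hF') (Abelian.image.ι φ) hV
  have h4 : genRank F = genRank F' + genRank F'' :=
    CurvLib.genRank_add (S := ShortComplex.mk i p w) hS hF'c hFc hF''c
  rw [CurveVBLib.genRank_eq hF] at h4
  have hlt : genRank (Abelian.image φ) < r := by omega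
  have s1 := hst _ _ (kernel.ι pQ) inferInstance hpos hlt hV'r
  have s2 := hst _ _ (kernel.ι (p ≫ Abelian.factorThruImage φ)) inferInstance (by omega) (by omega) hKr
  let S : ShortComplex X.Modules := ShortComplex.mk _ _ (kernel.condition (p ≫ Abelian.factorThruImage φ))
  have hS₂ : S.ShortExact :=
    { exact := ShortComplex.exact_of_f_is_kernel _ (kernelIsKernel _)
      mono_f := inferInstanceAs (Mono (kernel.ι _))
      epi_g := inferInstanceAs (Epi (p ≫ Abelian.factorThruImage φ)) }
  have hadd := parDeg_add (k := k) hdim hD hFl 𝓕 h𝓕 hKc hV _ _ (kernel.condition _) hS₂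
    (genRank (kernel (p ≫ Abelian.factorThruImage φ))) (genRank (Abelian.image φ))
  rw [← hrK] at hadd
  have hr : (r : ℝ) = (genRank (kernel (p ≫ Abelian.factorThruImage φ)) : ℝ) + (genRank (Abelian.image φ) : ℝ) := by
    exact_mod_cast hrK
  have h5 := mul_le_mul_of_nonneg_right hle (Nat.cast_nonneg (α := ℝ) r)
  have h6 := congrArg (fun x => x * (r : ℝ)) hadd
  simp only [add_mul] at h6
  have h7 := congrArg (fun x => 𝓕.parDeg k X r * x) hr
  simp only [mul_add] at h7
  linarith

end CurvParLib
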