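import Groth.Agent.SurfExtLib.CBIdeal
import Groth.Agent.CurvLib.StalkSum
import Groth.Agent.ParHilbLib.Basic
import Groth.Prelude.Def_ParBun

/-!
# Stalks of subobjects and of the twist by an ideal
-/

set_option autoImplicit false
set_option linter.style.haveILetI false
set_option backward.isDefEq.respectTransparency false
set_option backward.isDefEq.respectTransparency.types false
set_option maxHeartbeats 800000
universe u

open CategoryTheory CategoryTheory.Limits AlgebraicGeometry TopologicalSpace Opposite
open DevissLib QCohLib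
open scoped TensorProduct

noncomputable section

namespace CurvParLib

variable {X : Scheme.{u}}

/-- The stalk of an ideal, as an ideal of the local ring. -/
def Jst (I : X.IdealSheafData) (x : X) : Ideal (X.presheaf.stalk x) :=
  (LinearMap.range (FLI.sMap (ClSub.idealModι I) x)).comap
    (LinearMap.toSpanSingleton (X.presheaf.stalk x) _ (SurfExtLib.oneAt x))

theorem mem_Jst {I : X.IdealSheafData} {x : X} {c : X.presheaf.stalk x} :
    c ∈ Jst I x ↔ ∃ a, FLI.sMap (ClSub.idealModι I) x a = c • SurfExtLib.oneAt x := Iff.rfl

theorem range_twistMap (I : X.IdealSheafData) (E : X.Modules) (x : X) :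
    LinearMap.range ((St x).map (ParSh.twistMap I E)).hom = Jst I x • (⊤ : Submodule _ ((St x).obj E)) := by
  refine le_antisymm ?_ (Submodule.smul_le.2 fun c hc m _ => ?_)
  · rintro _ ⟨w, rfl⟩
    obtain ⟨v, rfl⟩ := (KFlatLib.stalkTensorLin_bijective E (ClSub.idealMod I) x).2 w
    induction v using TensorProduct.induction_on with
    | zero => rw [map_zero, map_zero]; exact zero_mem _
    | tmul m a =>
      obtain ⟨c, hc⟩ := SurfExtLib.exists_smul_oneAt x (FLI.sMap (ClSub.idealModι I) x a)
      change FLI.sMap (SurfExtLib.muHom E I) x _ ∈ _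
      rw [SurfExtLib.muHom_stalk E I x m a c hc.symm]
      exact Submodule.smul_mem_smul (mem_Jst.mpr ⟨a, hc.symm⟩) trivial
    | add p q hp hq => rw [map_add, map_add]; exact add_mem hp hq
  · obtain ⟨a, ha⟩ := mem_Jst.mp hc
    exact ⟨_, SurfExtLib.muHom_stalk E I x m a c ha⟩

/-- The stalk of a subobject inside that of the module. -/
abbrev rng {M : X.Modules} (A : Subobject M) (x : X) : Submodule (X.presheaf.stalk x) ((St x).obj M) :=
  LinearMap.range ((St x).map A.arrow).hom

theorem range_comp {A B C : X.Modules} (f : A ⟶ B) (g : B ⟶ C) (x : X) :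
    LinearMap.range ((St x).map (f ≫ g)).hom =
      (LinearMap.range ((St x).map f).hom).map ((St x).map g).hom := by
  rw [Functor.map_comp, ModuleCat.hom_comp, LinearMap.range_comp]

theorem stalk_surjective {A B : X.Modules} (f : A ⟶ B) [Epi f] (x : X) :
    Function.Surjective ((St x).map f).hom :=
  (ModuleCat.epi_iff_surjective _).mp (inferInstanceAs (Epi ((St x).map f)))

theorem range_epi_comp {A B C : X.Modules} (f : A ⟶ B) [Epi f] (g : B ⟶ C) (x : X) :
    LinearMap.range ((St x).map (f ≫ g)).hom = LinearMap.range ((St x).map g).hom := by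
  rw [range_comp, LinearMap.range_eq_top.mpr (show Function.Surjective ((St x).map f).hom from
    stalk_surjective f x), Submodule.map_top]

theorem rng_image {A M : X.Modules} (g : A ⟶ M) (x : X) :
    rng (imageSubobject g) x = LinearMap.range ((St x).map g).hom := by
  conv_rhs => rw [← imageSubobject_arrow_comp g]
  exact (range_epi_comp _ _ x).symm

theorem rng_twistSub (I : X.IdealSheafData) (E : X.Modules) (x : X) :
    rng (ParSh.twistSub I E) x = Jst I x • (⊤ : Submodule _ ((St x).obj E)) :=
  (rng_image _ x).trans (range_twistMap I E x)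

theorem rng_mono {M : X.Modules} {A B : Subobject M} (h : A ≤ B) (x : X) : rng A x ≤ rng B x := by
  simp only [rng, ← Subobject.ofLE_arrow h, range_comp]
  exact LinearMap.map_le_range

theorem rng_mk {A M : X.Modules} (f : A ⟶ M) [Mono f] (x : X) :
    rng (Subobject.mk f) x = LinearMap.range ((St x).map f).hom := by
  conv_rhs => rw [← Subobject.underlyingIso_arrow f]
  exact (range_epi_comp _ _ x).symm

theorem range_eq_ker {S : ShortComplex X.Modules} (hS : S.Exact) (x : X) :
    LinearMap.range ((St x).map S.f).hom = LinearMap.ker ((St x).map S.g).hom :=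
  (ShortComplex.moduleCat_exact_iff_range_eq_ker (S.map (St x))).mp (hS.map (St x))

theorem rng_eq_ker_π {M : X.Modules} (A : Subobject M) (x : X) :
    rng A x = LinearMap.ker ((St x).map (cokernel.π A.arrow)).hom :=
  range_eq_ker (ShortComplex.exact_cokernel A.arrow) x

theorem rng_pullback {W E : X.Modules} (ι : W ⟶ E) (B : Subobject E) (x : X) :
    rng ((Subobject.pullback ι).obj B) x = (rng B x).comap ((St x).map ι).hom := by
  have hw : ((Subobject.pullback ι).obj B).arrow ≫ (ι ≫ cokernel.π B.arrow) = 0 := by
    rw [← Category.assoc, ← (Subobject.isPullback ι B).w, Category.assoc, cokernel.condition, comp_zero]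
  have hex : (ShortComplex.mk _ _ hw).Exact := by
    refine ShortComplex.exact_of_f_is_kernel _ (KernelFork.IsLimit.ofι' _ hw fun {T} t ht => ?_)
    have hl := (Subobject.isPullback ι B)
    refine ⟨hl.lift (Abelian.monoLift B.arrow (t ≫ ι) (by rw [Category.assoc]; exact ht)) t
      (Abelian.monoLift_comp _ _ _), hl.lift_snd _ _ _⟩
  refine (range_eq_ker hex x).trans ?_
  rw [rng_eq_ker_π B x]
  change LinearMap.ker ((St x).map (ι ≫ cokernel.π B.arrow)).hom = _
  rw [Functor.map_comp, ModuleCat.hom_comp, LinearMap.ker_comp]

/-- The stalk of the quotient by a subobject. -/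
def cokerEquiv {M : X.Modules} (A : Subobject M) (x : X) :
    ((St x).obj M ⧸ rng A x) ≃ₗ[X.presheaf.stalk x] (St x).obj (cokernel A.arrow) :=
  (Submodule.quotEquivOfEq _ _ (rng_eq_ker_π A x)).trans
    (((St x).map (cokernel.π A.arrow)).hom.quotKerEquivOfSurjective
      (stalk_surjective (cokernel.π A.arrow) x))

/-- A split submodule meets the multiples of an ideal in its own multiples. -/
theorem comap_smul_top {R M N P : Type*} [CommRing R] [AddCommGroup M] [AddCommGroup N] [AddCommGroup P]
    [Module R M] [Module R N] [Module R P] [Module.Projective R P] (i : M →ₗ[R] N) (p : N →ₗ[R] P)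
    (hi : Function.Injective i) (hp : Function.Surjective p) (hip : LinearMap.range i = LinearMap.ker p)
    (J : Ideal R) : (J • (⊤ : Submodule R N)).comap i = J • (⊤ : Submodule R M) := by
  obtain ⟨s, hs⟩ := Module.projective_lifting_property p LinearMap.id hp
  have hmem : ∀ n, ((LinearMap.id : N →ₗ[R] N) - s ∘ₗ p) n ∈ LinearMap.range i := fun n => by
    rw [hip, LinearMap.mem_ker]
    simp [show p (s (p n)) = p n from LinearMap.congr_fun hs (p n)]
  let r : N →ₗ[R] M := (LinearEquiv.ofInjective i hi).symm.toLinearMap ∘ₗ
    LinearMap.codRestrict (LinearMap.range i) ((LinearMap.id : N →ₗ[R] N) - s ∘ₗ p) hmem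
  have hr : ∀ m, r (i m) = m := fun m => by
    refine (LinearEquiv.symm_apply_eq _).mpr (Subtype.ext ?_)
    have : p (i m) = 0 := LinearMap.mem_ker.mp (hip ▸ LinearMap.mem_range_self i m)
    simp [this]
  refine le_antisymm (fun m hm => ?_) (Submodule.smul_le.2 fun c hc m _ => ?_)
  · rw [← hr m]
    have h := Submodule.mem_map_of_mem (f := r) (Submodule.mem_comap.mp hm)
    rw [Submodule.map_smul''] at h
    exact Submodule.smul_mono le_rfl le_top h
  · rw [Submodule.mem_comap, map_smul]
    exact Submodule.smul_mem_smul hc trivial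

variable (k : Type u) [Field k] [X.Over (Spec (CommRingCat.of k))]

/-- Isomorphic stalks have the same dimension. -/
theorem stalkDim_congr {M N : X.Modules} {x : X} (e : (St x).obj M ≃ₗ[X.presheaf.stalk x] (St x).obj N) :
    CurvLib.stalkDim k M x = CurvLib.stalkDim k N x := by
  letI := CurvLib.stalkModule (k := k) M x
  letI := CurvLib.stalkModule (k := k) N x
  let e' : (St x).obj M ≃ₗ[k] (St x).obj N :=
    { e.toAddEquiv with map_smul' := fun c m => map_smul e (Curv2.stalkMap k X x c) m }
  exact e'.finrank_eq

/-- A surjection of stalks. -/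
theorem stalkDim_le_of_epi {M N : X.Modules} (f : M ⟶ N) [Epi f] (x : X)
    (hM : letI := CurvLib.stalkModule (k := k) M x; Module.Finite k ((St x).obj M)) :
    (letI := CurvLib.stalkModule (k := k) N x; Module.Finite k ((St x).obj N)) ∧
      CurvLib.stalkDim k N x ≤ CurvLib.stalkDim k M x := by
  letI := CurvLib.stalkModule (k := k) M x
  letI := CurvLib.stalkModule (k := k) N x
  haveI := hM
  let g : (St x).obj M →ₗ[k] (St x).obj N :=
    { ((St x).map f).hom.toAddMonoidHom with
      map_smul' := fun c m => map_smul ((St x).map f).hom (Curv2.stalkMap k X x c) m }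
  have hg : Function.Surjective g := stalk_surjective f x
  exact ⟨Module.Finite.of_surjective g hg, g.finrank_le_finrank_of_surjective hg⟩

/-- The colength of a subobject at a point. -/
def dimQ {M : X.Modules} (A : Subobject M) (x : X) : ℕ := CurvLib.stalkDim k (cokernel A.arrow) x

theorem dimQ_eq_of_equiv {M N : X.Modules} (A : Subobject M) (B : Subobject N) (x : X)
    (e : (St x).obj M ≃ₗ[X.presheaf.stalk x] (St x).obj N) (h : (rng A x).map e.toLinearMap = rng B x) :
    dimQ k A x = dimQ k B x :=
  stalkDim_congr k ((cokerEquiv A x).symm.trans ((Submodule.Quotient.equiv _ _ e h).trans (cokerEquiv B x)))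

end CurvParLib
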